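import Mathlib

/-!
The actions of the generators of a Sylow 2-subgroup of M22 on the keys of lattice vectors
(computed outside of Lean, checked in the file using them).
-/

namespace Cfsg.Agent.McLFusion

/-- Columns, one list for each generator. -/
def sylCols : List (List ℕ) :=
  [[1178, 1177, 4, 1171, 1051, 2397, 1243, 1163, 1435, 1857, 155, 1398, 4214938, 156804, 4341778, 4244812, 540811, 4194434, 4588574, 4407305, 5373973, 2245058, 131090, 8388608],
   [4932201, 4932202, 4935035, 4932192, 4933671, 4931688, 4932136, 4932747, 4932456, 4932168, 4933224, 4934912, 613960, 4337152, 65632, 704555, 16960, 4720448, 5049696, 4408576, 1770504, 6835043, 4276320, 8388608],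
   [2053, 2054, 4, 2060, 2084, 2068, 2116, 1474, 2308, 587, 3076, 2048, 6402, 533505, 4721933, 33860, 131138, 65602, 788748, 524288, 1574977, 2621454, 544013, 8388608],
   [21, 22, 4, 28, 16, 2068, 84, 1163, 276, 3964, 1044, 52, 528680, 535636, 593248, 557169, 542016, 4194315, 262158, 526388, 1049605, 2623762, 131103, 8388608],
   [720970, 721227, 720975, 720963, 722600, 721483, 720907, 723460, 720969, 721003, 723317, 721318, 4789228, 3278854, 6835019, 6523394, 2097224, 6357197, 5046732, 4850055, 7020583, 65608, 2624073, 8388608],
   [1, 2, 4, 64, 3526, 128, 8, 32, 256, 2639, 2366, 2048, 6402, 2171373, 2179493, 2359336, 2097152, 2621444, 98496, 196612, 3213391, 65536, 6357485, 8388608],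
   [4325405, 4326428, 4325400, 4325396, 4325532, 4326342, 4325468, 4325388, 4327714, 4328922, 4325406, 4329332, 6206, 7342650, 1066124, 1085256, 1706506, 5242882, 4588574, 4260406, 1049746, 4202976, 5243022, 8388608]]

end Cfsg.Agent.McLFusion
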