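import Cfsg.Agent.Leech.SimpleMcL
import Cfsg.Agent.Golay.FusionDataM22
import Cfsg.Agent.McLFusion.Data

/-!
A Sylow 2-subgroup of the copy of M22 fixes only one of the 2025 vectors.
-/

set_option autoImplicit false
set_option Elab.async false

namespace Cfsg.Agent.McLFusion

open Cfsg Cfsg.Agent.Golay Cfsg.Agent.Leech Cfsg.Agent.SchurCert

/-- The map of vectors by a code of a permutation. -/
def pullVec (inv : ℕ) (x : GolayPt → ℤ) : GolayPt → ℤ := fun p => x (codeFun inv p)

/-- Columns for a map, checked on generators of the lattice. -/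
def colsB (inv : ℕ) (cols : List ℕ) : Bool :=
  genVecs.all fun g => inLeechB g && (keyOf (pullVec inv g) == xorSel cols (keyOf g))

theorem keyOf_map {g : Co0} {inv : ℕ} (hg : ∀ x : leechLattice, (g • x).1 = pullVec inv x.1)
    {cols : List ℕ} (h : colsB inv cols = true) (x : leechLattice) :
    keyOf (g • x).1 = xorSel cols (keyOf x.1) := by
  let K : AddSubgroup (GolayPt → ℤ) :=
    { carrier := {y | ∃ hy : y ∈ leechLattice,
        keyOf (g • (⟨y, hy⟩ : leechLattice)).1 = xorSel cols (keyOf y)}
      zero_mem' := ⟨zero_mem _, by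
        have h0 : g • (0 : leechLattice) = 0 := by
          have := co0_add g 0 0
          rwa [add_zero, left_eq_add] at this
        rw [show (⟨0, zero_mem _⟩ : leechLattice) = 0 from rfl, h0, keyOf_zero, xorSel_zero]
        exact keyOf_zero⟩
      add_mem' := fun {a b} ⟨ha, ha'⟩ ⟨hb, hb'⟩ => ⟨add_mem ha hb, by
        rw [show (⟨a + b, add_mem ha hb⟩ : leechLattice) = ⟨a, ha⟩ + ⟨b, hb⟩ from rfl, co0_add,
          AddSubgroup.coe_add, keyOf_add (Subtype.prop _), ha', hb', keyOf_add ha, xorSel_xor]⟩
      neg_mem' := fun {a} ⟨ha, ha'⟩ => ⟨neg_mem ha, by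
        rw [show (⟨-a, neg_mem ha⟩ : leechLattice) = -⟨a, ha⟩ from rfl, co0_neg,
          AddSubgroup.coe_neg, keyOf_neg (Subtype.prop _), ha', keyOf_neg ha]⟩ }
  obtain ⟨_, hx⟩ := leechLattice_le_of_gens (K := K) (fun v hv => by
    have := List.all_eq_true.mp h v hv
    rw [Bool.and_eq_true, beq_iff_eq] at this
    exact ⟨mem_of_inLeechB this.1, by rw [hg]; exact this.2⟩) x.2
  exact hx

/-- The keys of the 2025 vectors. -/
def keys2025 : List ℕ :=
  sortKeys (keyOf pZ.1 :: walk (Trees.t2025.gens.map Prod.snd) (unpack Trees.t2025.toks) [keyOf pZ.1])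

theorem keys_check : incB keys2025 = true ∧ keys2025.length = 2025 ∧
    (keys2025.all fun k => k == keyOf pZ.1 || sylCols.any fun c => applyCols c k != k) = true := by
  decide +kernel

theorem cols_check : ∀ i < 7,
    colsB ((m22FusGens.getD i (permOne, permOne)).2) (sylCols.getD i []) = true ∧
      validPair (m22FusGens.getD i (permOne, permOne)) = true := by
  decide +kernel

attribute [local irreducible] keyOf in
theorem keyed : Set.InjOn (fun x : leechLattice => keyOf x.1) set2025 ∧
    ∀ x ∈ set2025, keyOf x.1 ∈ keys2025 := by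
  classical
  have hfin : set2025.Finite := Set.finite_of_ncard_pos (by rw [count2025]; norm_num)
  obtain ⟨hinc, hlen, -⟩ := keys_check
  have hsub : (↑keys2025.toFinset : Set ℕ) ⊆ (fun x : leechLattice => keyOf x.1) '' set2025 := by
    intro k hk
    have hk' := mem_mergeAll 17 _ (show k ∈ mergeAll 17 _ from List.mem_toFinset.mp hk)
    rw [List.mem_flatten] at hk'
    obtain ⟨s, hs, hks⟩ := hk'
    obtain ⟨k', hk'', rfl⟩ := List.mem_map.mp hs
    rw [List.mem_singleton] at hks
    subst hks
    rcases List.mem_cons.mp hk'' with rfl | hw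
    · exact ⟨pZ, pZ_mem, rfl⟩
    · have hacts := certs2025.1
      obtain ⟨g, hg, e⟩ := walk_sound (K := mcl) (fun cols hcols => by
        obtain ⟨w, hw', rfl⟩ := List.mem_map.mp hcols
        have h1 := List.all_eq_true.mp hacts w hw'
        rw [Bool.and_eq_true] at h1
        exact ⟨wordAut w.1, fixConf_le_mcl (mem_fixConf.mpr (le_stabilizer_of_gensB hacts w hw')),
          fun x => keyOf_word h1.1 x⟩) pZ _ _ (fun j hj => by
        rw [List.mem_singleton] at hj
        subst hj
        exact ⟨1, one_mem _, congrArg (fun v : leechLattice => keyOf v.1) (one_smul Co0 pZ)⟩) k hw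
      exact ⟨g • pZ, set2025_inv hg pZ_mem, e⟩
  have hcard : (↑keys2025.toFinset : Set ℕ).ncard = 2025 := by
    rw [Set.ncard_coe_finset, List.toFinset_card_of_nodup (nodup_of_incB hinc), hlen]
  have himg : ((fun x : leechLattice => keyOf x.1) '' set2025).ncard ≤ 2025 :=
    (Set.ncard_image_le hfin).trans_eq count2025
  have heq := Set.eq_of_subset_of_ncard_le hsub (by omega) (hfin.image _)
  refine ⟨?_, fun x hx => ?_⟩
  · refine Set.injOn_of_ncard_image_eq ?_ hfin
    rw [← heq, hcard, count2025]
  · exact List.mem_toFinset.mp (Finset.mem_coe.mp (heq ▸ Set.mem_image_of_mem _ hx))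

attribute [local irreducible] keyOf in
/-- A vector of the 2025 fixed by the seven generators is `pZ`. -/
theorem eq_pZ_of_fixed {x : leechLattice} (hx : x ∈ set2025) (g : ℕ → Co0)
    (hg : ∀ i < 7, ∀ y : leechLattice,
      (g i • y).1 = pullVec ((m22FusGens.getD i (permOne, permOne)).2) y.1)
    (hfix : ∀ i < 7, g i • x = x) : x = pZ := by
  obtain ⟨hinj, hmem⟩ := keyed
  obtain ⟨-, -, hall⟩ := keys_check
  have h := List.all_eq_true.mp hall _ (hmem x hx)
  simp only [Bool.or_eq_true, beq_iff_eq, List.any_eq_true, bne_iff_ne] at h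
  rcases h with h | ⟨c, hc, hne⟩
  · exact hinj hx pZ_mem h
  · exfalso
    obtain ⟨i, hi, rfl⟩ := List.getElem_of_mem hc
    have hi7 : i < 7 := by
      have : sylCols.length = 7 := rfl
      omega
    have hk := keyOf_map (hg i hi7) (cols_check i hi7).1 x
    rw [hfix i hi7, List.getD_eq_getElem _ _ hi] at hk
    exact hne (by rw [applyCols_eq]; exact hk.symm)

end Cfsg.Agent.McLFusion
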