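import Cfsg.Agent.McLFusion.Fixed
import Cfsg.Agent.S5168

/-!
The 2-fusion system of the McLaughlin group is simple: a Sylow 2-subgroup lies in a copy of M22
and fixes only one of the 2025 vectors, so it is self-normalising and the fusion inside M22 leaves
no proper strongly closed subgroup.
-/

set_option autoImplicit false
set_option Elab.async false

namespace Cfsg.Agent.McLFusion

open Cfsg Cfsg.Agent.Golay Cfsg.Agent.SchurCert Cfsg.Agent.AutCert
open scoped Pointwise

theorem pV_eq : Leech.pV = -Spor.leechV := by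
  refine Subtype.ext (funext fun p => ?_)
  show Leech.tv 5 1 1 p = -Spor.vecV p
  rw [Leech.tv_apply]
  simp only [Spor.vecV]
  split_ifs <;> rfl

theorem pU_eq : Leech.pU = Spor.leechU := by
  refine Subtype.ext (funext fun p => ?_)
  show Leech.tv 4 4 0 p = Spor.vecU p
  rw [Leech.tv_apply]
  simp only [Spor.vecU]
  split_ifs <;> first | rfl | simp_all

theorem mem_mcl_iff {g : Co0} : g ∈ Leech.mcl ↔
    g • Spor.leechV = Spor.leechV ∧ g • Spor.leechU = Spor.leechU := by
  rw [Leech.mem_mcl, pV_eq, pU_eq, Leech.co0_neg, neg_inj]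

/-- The identification of the prelude group with the subgroup of `Co0`. -/
def mclEquiv : Spor.McL ≃* Leech.mcl where
  toFun x := ⟨⟨x.1, x.2.1.1⟩, mem_mcl_iff.mpr ⟨x.2.1.2, x.2.2⟩⟩
  invFun y := ⟨y.1.1, ⟨y.1.2, (mem_mcl_iff.mp y.2).1⟩, (mem_mcl_iff.mp y.2).2⟩
  left_inv _ := rfl
  right_inv _ := rfl
  map_mul' _ _ := rfl

/-- The copy of M22 in the group. -/
def m22Emb : Spor.M22 →* Leech.mcl :=
  Leech.m22Hom.codRestrict Leech.mcl fun σ => Leech.m22G_le_mcl ⟨σ, rfl⟩

theorem m22Emb_injective : Function.Injective m22Emb := fun _ _ h =>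
  Leech.m22Hom_injective (congrArg Subtype.val h)

theorem isSimple_fusion {G : Type*} [Group G] [Finite G] (hG : Cfsg.Spor.IsoMcL G) (S : Sylow 2 G) :
    (Cfsg.groupFusionSystem (S : Subgroup G)).IsSimple 2 := by
  haveI : Fact (Nat.Prime 2) := ⟨Nat.prime_two⟩
  obtain ⟨e⟩ := hG
  let j : G ≃* Leech.mcl := e.trans mclEquiv
  let f : Spor.M22 →* G := j.symm.toMonoidHom.comp m22Emb
  have hf : Function.Injective f := j.symm.injective.comp m22Emb_injective
  have hjf : ∀ σ, ((j (f σ) : Leech.mcl) : Co0) = Leech.m22Hom σ := fun σ =>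
    congrArg Subtype.val (j.apply_symm_apply (m22Emb σ))
  haveI : Finite Spor.M22 := Finite.of_injective f hf
  -- the certificate inside M22
  set gen := elemAt Cfsg.Spor.M22 m22FusGens
  have htest := S5168.tested
  have hgen : ∀ i, (permCode Cfsg.Spor.M22).enc (gen i) = m22FusCert.gens.getD i permOne :=
    enc_elemAt (List.all_eq_true.2 fun x hx => List.all_eq_true.1 htest.1 x
      (List.mem_append_left _ (List.mem_append_left _ hx)))
      fun x hx => S5168.mem_group x (List.mem_append_left _ (List.mem_append_left _ hx))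
  have hgs : ∀ i, (permCode Cfsg.Spor.M22).enc (elemAt Cfsg.Spor.M22 m22FusElts i) =
      m22FusCert.gs.getD i permOne :=
    enc_elemAt (List.all_eq_true.2 fun x hx => List.all_eq_true.1 htest.1 x
      (List.mem_append_left _ (List.mem_append_right _ hx)))
      fun x hx => S5168.mem_group x (List.mem_append_left _ (List.mem_append_right _ hx))
  have hself := m22FusCert.normalizer_le gen hgen m22Fus_presOK m22Fus_centreOK m22FusBase
      m22Fus_baseOK Cfsg.Spor.M22 (fun x _ => x.2)
      (start_mem_of_list m22FusBase m22FusVals rfl (by decide +kernel)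
        (List.all_eq_true.2 fun x hx => List.all_eq_true.1 htest.1 x (List.mem_append_right _ hx))
        (fun x hx => S5168.mem_group x (List.mem_append_right _ hx)))
      (S5168.card_group.trans (by decide +kernel)) m22FusReps m22Fus_repsOK m22Fus_centOK
  set P₀ : Subgroup Spor.M22 := initGroup gen m22FusCert.P.n with hP₀
  have hc0 : Nat.card P₀ = 128 := (m22FusCert.card_eq gen hgen m22Fus_presOK).trans (by decide)
  have hcardG : Nat.card G = 898128000 := (Nat.card_congr j.toEquiv).trans Leech.card_mcl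
  have hcP : Nat.card (P₀.map f) = 128 := (Subgroup.card_map_of_injective hf).trans hc0
  have hodd : ¬ 2 ∣ (P₀.map f).index := by
    have h := Subgroup.index_mul_card (P₀.map f)
    rw [hcP, hcardG] at h
    omega
  set S₀ : Sylow 2 G := (IsPGroup.of_card (n := 7) hcP).toSylow hodd
  have hS₀c : (S₀ : Subgroup G) = P₀.map f := rfl
  obtain ⟨g, hg⟩ := MulAction.exists_smul_eq G S₀ S
  have hmem : ∀ x : G, x ∈ (S : Subgroup G) ↔ g⁻¹ * x * g ∈ P₀.map f := by
    intro x
    rw [← hg, Sylow.coe_subgroup_smul, Subgroup.mem_pointwise_smul_iff_inv_smul_mem,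
      ← hS₀c, MulAut.smul_def, ← map_inv, MulAut.conj_apply, inv_inv]
  have hmem' : ∀ x : Spor.M22, x ∈ P₀ → g * f x * g⁻¹ ∈ (S : Subgroup G) := fun x hx => by
    rw [hmem, show g⁻¹ * (g * f x * g⁻¹) * g = f x by group]
    exact ⟨x, hx, rfl⟩
  obtain ⟨hz, hz1, hzc, huniq⟩ := m22FusCert.eq_z_of_central gen hgen m22Fus_presOK m22Fus_centreOK
  set z := evalW gen m22FusCert.zW
  refine FusionCrit.isSimple_of_normalizer_generation S ?_ ?_ ?_
  · intro h
    have := hmem' z hz
    rw [h, Subgroup.mem_bot, conj_eq_one_iff] at this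
    exact hz1 (hf (this.trans (map_one f).symm))
  · intro T hT
    refine or_iff_not_imp_left.2 fun hT1 => le_antisymm hT.1 ?_
    obtain ⟨w, hw, hw1, hwc⟩ := FusionCrit.exists_central_of_stronglyClosed S hT hT1
    obtain ⟨y, hy, hye⟩ := (hmem w).1 (hT.1 hw)
    have hyz : y = z := by
      refine huniq _ hy (fun h => hw1 ?_) fun s hs => hf ?_
      · rw [h, map_one] at hye
        have : w = g * (g⁻¹ * w * g) * g⁻¹ := by group
        rw [this, ← hye, mul_one, mul_inv_cancel]
      · have := hwc _ (hmem' s hs)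
        rw [map_mul, map_mul, hye]
        calc f s * (g⁻¹ * w * g) = g⁻¹ * ((g * f s * g⁻¹) * w) * g := by group
          _ = g⁻¹ * (w * (g * f s * g⁻¹)) * g := by rw [this]
          _ = g⁻¹ * w * g * f s := by group
    let Q : Subgroup Spor.M22 := (T.comap (MulAut.conj g).toMonoidHom).comap f
    have hQ : ∀ x, x ∈ Q ↔ g * f x * g⁻¹ ∈ T := fun x => Iff.rfl
    have hle := m22FusCert.le_of_closed gen _ hgen hgs m22Fus_fusOK Q
      ((hQ _).2 (by
        show g * f z * g⁻¹ ∈ T
        rw [← hyz, hye, show g * (g⁻¹ * w * g) * g⁻¹ = w by group]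
        exact hw)) ?_
    · intro x hx
      obtain ⟨u, hu, hue⟩ := (hmem x).1 hx
      have := (hQ _).1 (hle hu)
      rwa [hue, show g * (g⁻¹ * x * g) * g⁻¹ = x by group] at this
    · intro x hx a ha
      refine (hQ _).2 ?_
      have e : g * f (a * x * a⁻¹) * g⁻¹ =
          (g * f a * g⁻¹) * (g * f x * g⁻¹) * (g * f a * g⁻¹)⁻¹ := by
        rw [map_mul, map_mul, map_inv]; group
      rw [e]
      exact FusionCrit.conj_mem_of_stronglyClosed S hT ((hQ x).1 hx) _ (e ▸ hmem' _ ha)
  · intro x hx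
    refine Subgroup.subset_closure (FusionCrit.self_subset_goodSet S ((hmem x).2 ?_))
    set n := g⁻¹ * x * g with hn
    have hx' := Subgroup.mem_normalizer_iff.1 hx
    have hconj : ∀ y : G, n * y * n⁻¹ ∈ P₀.map f ↔ y ∈ P₀.map f := by
      intro y
      have h1 : (n * y * n⁻¹) = g⁻¹ * (x * (g * y * g⁻¹) * x⁻¹) * g := by rw [hn]; group
      have h2 : g⁻¹ * (g * y * g⁻¹) * g = y := by group
      rw [h1, ← hmem, ← hx', hmem, h2]
    -- the unique fixed vector
    set u : Co0 := (j n : Co0)
    have hfixed : ∀ i < 7, Leech.m22Hom (gen i) • u • Leech.pZ = u • Leech.pZ := by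
      intro i hi
      obtain ⟨s, -, hse⟩ : n⁻¹ * f (gen i) * n ∈ P₀.map f := by
        rw [← hconj, show n * (n⁻¹ * f (gen i) * n) * n⁻¹ = f (gen i) by group]
        exact ⟨_, mem_initGroup gen hi, rfl⟩
      have hfx : Leech.m22Hom s • Leech.pZ = Leech.pZ :=
        Leech.m22G_fix_tv 4 (-4) 0 Leech.pZ rfl _ ⟨s, rfl⟩
      have e1 : f (gen i) * n = n * f s := by rw [hse]; group
      have e2 : Leech.m22Hom (gen i) * u = u * Leech.m22Hom s := by
        rw [← hjf, ← hjf, ← Subgroup.coe_mul, ← Subgroup.coe_mul, ← map_mul, ← map_mul, e1]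
      rw [← mul_smul, e2, mul_smul, hfx]
    have huz : u • Leech.pZ = Leech.pZ := by
      refine eq_pZ_of_fixed (Leech.set2025_inv (j n).2 Leech.pZ_mem)
        (fun i => Leech.m22Hom (gen i)) (fun i hi y => ?_) hfixed
      have hv := (cols_check i hi).2
      have hmemi : permOfPair (m22FusGens.getD i (permOne, permOne)) ∈ Spor.M22 := by
        rw [List.getD_eq_getElem _ _ (show i < m22FusGens.length from hi)]
        exact S5168.mem_group _ (List.mem_append_left _ (List.mem_append_left _ (List.getElem_mem _)))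
      funext p
      rw [Leech.m22Hom_smul, show gen i = ⟨_, hmemi⟩ from dif_pos hmemi]
      show y.1 ((permOfPair _)⁻¹ p) = y.1 (codeFun _ p)
      refine congrArg y.1 (Equiv.Perm.inv_eq_iff_eq.2 ?_)
      rw [permOfPair_apply hv]
      exact ((validPair_inv hv p).2).symm
    have hu : u ∈ Leech.m22G := by
      rw [← Leech.mcl_inf_pZ]
      exact ⟨(j n).2, MulAction.mem_stabilizer_iff.2 huz⟩
    obtain ⟨σ, hσ⟩ := hu
    have hnσ : n = f σ := j.injective (Subtype.ext ((hjf σ).trans hσ).symm)
    refine ⟨σ, hself (Subgroup.mem_normalizer_iff.2 fun y => ?_), hnσ.symm⟩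
    have h := hconj (f y)
    rw [hnσ, ← map_inv, ← map_mul, ← map_mul] at h
    simp only [Subgroup.mem_map_iff_mem hf] at h
    exact h.symm

end Cfsg.Agent.McLFusion
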